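import Cfsg.Agent.Ly.Setup

/-!
# An element of order 25 of `Ly` (helper314)
-/

set_option autoImplicit false
set_option maxRecDepth 100000

namespace Cfsg.Agent.H314.LyOrb.Ord25

open Cfsg Cfsg.Agent.Ly Cfsg.Agent.Ly.Mat7 Cfsg.Agent.Ly.Upper Cfsg.Agent.Ly.Cover

def W : List ℕ := [0, 1, 4, 2]

theorem ev_pow {G : Type*} [Group G] (x : Fin 4 → G) (w : List ℕ) (n : ℕ) :
    ev x w ^ n = ev x (List.replicate n w).flatten := by
  induction n with
  | zero => rw [pow_zero, List.replicate_zero, List.flatten_nil, ev_nil]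
  | succ n ih => rw [pow_succ', ih, List.replicate_succ, List.flatten_cons, ev_append]

theorem pow25 : (ev gen W : GL (Fin 7) (ZMod 5)) ^ 25 = 1 := by
  rw [ev_pow, ← ev_nil gen]
  exact word_eq (by decide +kernel)

/-- Is the matrix with code `X` the identity? -/
def isOne (X : ℕ) : Bool := (List.finRange 7).all fun i => (List.finRange 7).all fun j =>
  decide (toM X i j = if i = j then 1 else 0)

theorem isOne_of {X : ℕ} (h : toM X = 1) : isOne X = true := by
  rw [isOne, List.all_eq_true]
  intro i _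
  rw [List.all_eq_true]
  intro j _
  rw [decide_eq_true_iff, h, Matrix.one_apply]

theorem pow5 : (ev gen W : GL (Fin 7) (ZMod 5)) ^ 5 ≠ 1 := by
  intro h
  rw [ev_pow] at h
  have h1 := (evalK_spec (List.replicate 5 W).flatten oneN_ok).2
  rw [toM_oneN, Matrix.one_mul, h, Units.val_one] at h1
  have h2 : isOne (evalK (List.replicate 5 W).flatten oneN) = false := by decide +kernel
  rw [isOne_of h1] at h2
  exact absurd h2 (by decide)

theorem exists25 : ∃ g : Cfsg.Spor.Ly, orderOf g = 25 := by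
  have : Fact (Nat.Prime 5) := ⟨Nat.prime_five⟩
  have h1 : ∀ n : ℕ, (ev Data.hgen W : Hhat) ^ n = 1 ↔ (ev gen W : GL (Fin 7) (ZMod 5)) ^ n = 1 := by
    intro n
    rw [← Data.coe_ev, ← Subgroup.coe_pow]
    exact ⟨fun h => congrArg Subtype.val h, fun h => Subtype.ext h⟩
  refine ⟨Setup.psi (ev Data.hgen W), ?_⟩
  rw [orderOf_injective Setup.psi Setup.psi_injective]
  have := orderOf_eq_prime_pow (p := 5) (n := 1) (x := (ev Data.hgen W : Hhat))
    (by rw [h1]; exact pow5) (by rw [h1]; exact pow25)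
  simpa using this

end Cfsg.Agent.H314.LyOrb.Ord25
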