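import Cfsg.Agent.H314.LyOrb.IMSevenB
import Cfsg.Agent.H314.LyOrb.Ord25

/-!
# Itô-Michler for `Ly`, `p = 7` (helper314)
-/

set_option autoImplicit false
set_option linter.unusedSectionVars false

namespace Cfsg.Agent.H314.LyOrb.IMSeven

open Cfsg Subgroup Equiv Cfsg.Agent.H593.IMCyc Cfsg.Agent.SporRec.TwoAn Cfsg.Agent.TypeM.Two Cfsg.Agent.H33
  Cfsg.Agent.H724.IMTool Cfsg.Agent.H713 Cfsg.Agent.H713.Count Cfsg.Agent.H314.LyOrb.PermA
  Cfsg.Agent.H710.Spor.Ly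

/-- A list of `k` pairwise nonconjugate elements of order `n`. -/
def LL (G : Type*) [Group G] (n k : ℕ) : Prop :=
  ∃ l : List G, l.length = k ∧ (∀ g ∈ l, orderOf g = n) ∧ l.Pairwise fun a b => ¬ IsConj a b

theorem LL.one {G : Type*} [Group G] {n : ℕ} (h : ∃ g : G, orderOf g = n) : LL G n 1 := by
  obtain ⟨g, hg⟩ := h
  exact ⟨[g], rfl, by simpa using hg, List.pairwise_singleton _ _⟩

section mt

variable {G : Type*} [Group G] [Finite G] (L : MT 11 G)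

/-- an odd order type, times the central involution -/
theorem exists_odd {σ : Perm (Fin 11)} (hσ : Perm.sign σ = 1) {n : ℕ} (hn : Odd n) (ho : orderOf σ = n) :
    ∃ y : centralizer ({L.t} : Set G), L.K.π y = σ ∧ orderOf (y : G) = n * 2 ∧ y ^ n = L.K.z := by
  obtain ⟨y, hy, -, h2, h3⟩ := odd_orders L.K (Perm.mem_alternatingGroup.2 hσ) hn ho
  exact ⟨y * L.K.z, by rw [map_mul, L.K.π_z, mul_one, hy], by rw [Subgroup.orderOf_coe, h2], h3⟩

/-- a type of even order -/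
theorem exists_even {σ : Perm (Fin 11)} (hσ : Perm.sign σ = 1) (n : ℕ)
    (a b c d : Fin 11) (hd : [a, b, c, d].Nodup) (h : σ ^ n = swap a b * swap c d)
    (ho : orderOf σ = n * 2) :
    ∃ y : centralizer ({L.t} : Set G), L.K.π y = σ ∧ orderOf (y : G) = n * 2 * 2 ∧ y ^ (n * 2) = L.K.z := by
  simp only [List.nodup_cons, List.mem_cons, List.not_mem_nil, or_false, not_or] at hd
  obtain ⟨y, hy, h1, h2⟩ := even_orders L.K (Perm.mem_alternatingGroup.2 hσ) hd.1.1 hd.1.2.1 hd.1.2.2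
    hd.2.1.1 hd.2.1.2 hd.2.2.1 h ho
  exact ⟨y, hy, by rw [Subgroup.orderOf_coe, h1], h2⟩

theorem LL.two {y1 y2 : centralizer ({L.t} : Set G)} {m n : ℕ} (o1 : orderOf (y1 : G) = n)
    (o2 : orderOf (y2 : G) = n) (h1 : y1 ^ m = L.K.z) (h2 : y2 ^ m = L.K.z)
    (h : fp (L.K.π y1) ≠ fp (L.K.π y2)) : LL G n 2 := by
  refine ⟨[(y1 : G), (y2 : G)], rfl, ?_, ?_⟩
  · intro g hg
    simp only [List.mem_cons, List.not_mem_nil, or_false] at hg
    rcases hg with rfl | rfl <;> assumption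
  · rw [List.pairwise_pair]
    exact not_conj_fp L h1 h2 h

include L

theorem LL6 : LL G 6 3 := by
  obtain ⟨y1, a1, b1, c1⟩ := exists_odd L (σ := t3) (n := 3) sgn.1 (by decide) o3
  obtain ⟨y2, a2, b2, c2⟩ := exists_odd L (σ := t33) (n := 3) sgn'.1 (by decide) o33
  obtain ⟨y3, a3, b3, c3'⟩ := exists_odd L (σ := t333) (n := 3) sgn'.2.1 (by decide) o333
  refine ⟨[(y1 : G), (y2 : G), (y3 : G)], rfl, ?_, ?_⟩
  · intro g hg
    simp only [List.mem_cons, List.not_mem_nil, or_false] at hg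
    rcases hg with rfl | rfl | rfl <;> assumption
  · rw [List.pairwise_cons, List.pairwise_pair]
    refine ⟨?_, not_conj_fp L c2 c3' (by rw [a2, a3, fps.2.1, fps.2.2.1]; decide)⟩
    intro g hg
    simp only [List.mem_cons, List.not_mem_nil, or_false] at hg
    rcases hg with rfl | rfl
    · exact not_conj_fp L c1 c2 (by rw [a1, a2, fps.1, fps.2.1]; decide)
    · exact not_conj_fp L c1 c3' (by rw [a1, a3, fps.1, fps.2.2.1]; decide)

theorem LL8 : LL G 8 2 := by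
  obtain ⟨y1, a1, b1, c1⟩ := exists_even L (σ := t8) sgn.2.2.2.2.2.2.2.2.1 2 0 2 1 3 (by decide) p8 o8
  obtain ⟨y2, a2, b2, c2⟩ := exists_even L (σ := t8') sgn'.2.2.1 2 0 2 1 3 (by decide) p8' o8'
  exact LL.two L b1 b2 c1 c2 (by rw [a1, a2, fps.2.2.2.1, fps.2.2.2.2.1]; decide)

theorem LL10 : LL G 10 2 := by
  obtain ⟨y1, a1, b1, c1⟩ := exists_odd L (σ := t5) (n := 5) sgn.2.1 (by decide) o5
  obtain ⟨y2, a2, b2, c2⟩ := exists_odd L (σ := t55) (n := 5) sgn'.2.2.2.1 (by decide) o55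
  exact LL.two L b1 b2 c1 c2 (by rw [a1, a2, fps.2.2.2.2.2.1, fps.2.2.2.2.2.2.1]; decide)

theorem LL12 : LL G 12 2 := by
  obtain ⟨y1, a1, b1, c1⟩ := exists_even L (σ := t12) sgn.2.2.2.2.2.2.2.2.2.1 3 3 4 5 6 (by decide) p12 o12
  obtain ⟨y2, a2, b2, c2⟩ := exists_even L (σ := t12') sgn'.2.2.2.2.1 3 3 4 5 6 (by decide) p12' o12'
  exact LL.two L b1 b2 c1 c2 (by rw [a1, a2, fps.2.2.2.2.2.2.2.1, fps.2.2.2.2.2.2.2.2.1]; decide)

theorem LL24 : LL G 24 2 := by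
  obtain ⟨y1, a1, b1, c1⟩ := exists_even L (σ := t24) sgn.2.2.2.2.2.2.2.2.2.2.2.1 6 0 2 1 3 (by decide)
    Cfsg.Agent.H710.Spor.Ly.p24 o24
  obtain ⟨y2, a2, b2, c2⟩ := exists_even L (σ := t24') sgn'.2.2.2.2.2.1 6 0 2 1 3 (by decide) p24' o24'
  exact LL.two L b1 b2 c1 c2 (by rw [a1, a2, fps.2.2.2.2.2.2.2.2.2.1, fps.2.2.2.2.2.2.2.2.2.2.1]; decide)

theorem LL30 : LL G 30 2 := by
  obtain ⟨y1, a1, b1, c1⟩ := exists_odd L (σ := t15) (n := 15) sgn.2.2.2.2.2.1 (by decide) o15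
  obtain ⟨y2, a2, b2, c2⟩ := exists_odd L (σ := t15') (n := 15) sgn'.2.2.2.2.2.2 (by decide) o15'
  exact LL.two L b1 b2 c1 c2 (by rw [a1, a2, fps.2.2.2.2.2.2.2.2.2.2.2.1, fps.2.2.2.2.2.2.2.2.2.2.2.2]; decide)

theorem LL22 : LL G 22 2 := by
  obtain ⟨y1, a1, b1, c1⟩ := exists_odd L (σ := t11) (n := 11) sgn.2.2.2.2.1 (by decide) o11
  obtain ⟨y2, a2, b2, c2⟩ := exists_odd L (σ := t11⁻¹) (n := 11) (by rw [Perm.sign_inv]; exact sgn.2.2.2.2.1)
    (by decide) o11'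
  refine ⟨[(y1 : G), (y2 : G)], rfl, ?_, ?_⟩
  · intro g hg
    simp only [List.mem_cons, List.not_mem_nil, or_false] at hg
    rcases hg with rfl | rfl <;> assumption
  · rw [List.pairwise_pair]
    intro hc
    obtain ⟨ρ, hρ, h⟩ := conj_of L c1 c2 hc
    rw [a1, a2] at h
    exact not_conj11 ρ hρ h

end mt

theorem exists33 : ∃ g : Spor.Ly, orderOf g = 33 := by
  have hfin : Finite Cfsg.Spor.Ly := Cfsg.Agent.Ly.Setup.finite_ly
  obtain ⟨x₀, h⟩ := Cfsg.Agent.CpAutLy.Base.exists_three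
  obtain ⟨-, -, hcard, -⟩ := TypeM.FactsMcL.facts h.quot
  have : Fact (Nat.Prime 11) := ⟨by norm_num⟩
  have h11 : 11 ∣ Nat.card ↥(centralizer ({x₀} : Set Cfsg.Spor.Ly)) := by
    refine Dvd.dvd.trans ?_ (Subgroup.card_quotient_dvd_card (center ↥(centralizer ({x₀} : Set Cfsg.Spor.Ly))))
    rw [hcard]
    norm_num
  obtain ⟨c, hc⟩ := exists_prime_orderOf_dvd_card' 11 h11
  have hcomm : Commute x₀ (c : Cfsg.Spor.Ly) := (mem_centralizer_singleton_iff.1 c.2).symm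
  refine ⟨x₀ * c, ?_⟩
  have hc' : orderOf (c : Cfsg.Spor.Ly) = 11 := by rw [Subgroup.orderOf_coe, hc]
  rw [hcomm.orderOf_mul_eq_mul_orderOf_of_coprime, h.ord, hc']
  rw [h.ord, hc']
  norm_num

/-- the number of classes used -/
def cnt (n : ℕ) : ℕ := if n = 6 then 3 else if n ∈ [8, 10, 12, 22, 24, 30] then 2 else 1

theorem im_seven : IM 7 Spor.Ly := by
  have hfin : Finite Cfsg.Spor.Ly := Cfsg.Agent.Ly.Setup.finite_ly
  have hcard : Nat.card Cfsg.Spor.Ly = 51765179004000000 := Cfsg.Agent.Ly.Setup.card_ly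
  obtain ⟨L⟩ := Cfsg.Agent.TypeM.FactsLy.exists_mt_ly
  obtain ⟨y, hy, ho, -, -⟩ := odd_orders L.K (σ := t7) (n := 7) (Perm.mem_alternatingGroup.2 sgn.2.2.1) (by decide) o7
  have hy7 : y ^ 7 = 1 := by rw [← ho]; exact pow_orderOf_eq_one y
  have hx : orderOf (y : Spor.Ly) = 7 := by rw [Subgroup.orderOf_coe, ho]
  have hx7 : (y : Spor.Ly) ^ 7 = 1 := by rw [← hx]; exact pow_orderOf_eq_one _
  have h6 := fus_six hx7 (three_fus L hy hy7)
  have hc : Nat.card (centralizer ({(y : Spor.Ly)} : Set Spor.Ly)) = 168 := by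
    have h1 := card_normalizer_seven hx
    rw [card_normalizer_zpowers hx, h6] at h1
    omega
  refine IM_T5_lists fac7 hx (e := 6) (m := 5) h6.le (numCls_le_five L hy hy7 hc)
    {1, 2, 3, 4, 5, 9, 11, 15, 18, 20, 25, 31, 33, 37, 40, 67, 6, 8, 10, 12, 22, 24, 30} cnt ?_ (by decide)
  intro n hn
  have hex : n ∈ ({1, 3, 5, 7, 9, 11, 15, 21, 2, 6, 10, 14, 18, 22, 30, 42,
    4, 8, 12, 20, 24, 28, 40} : Finset ℕ) → LL Spor.Ly n 1 := fun h => LL.one (exists_orders L n h)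
  have hpr : ∀ q : ℕ, q.Prime → q ∣ 51765179004000000 → LL Spor.Ly q 1 := by
    intro q hq hd
    have : Fact q.Prime := ⟨hq⟩
    exact LL.one (exists_prime_orderOf_dvd_card' q (by rw [hcard]; exact hd))
  simp only [Finset.mem_insert, Finset.mem_singleton] at hn
  rcases hn with rfl | rfl | rfl | rfl | rfl | rfl | rfl | rfl | rfl | rfl | rfl | rfl | rfl | rfl |
    rfl | rfl | rfl | rfl | rfl | rfl | rfl | rfl | rfl
  · exact ⟨by decide, hex (by decide)⟩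
  · exact ⟨by decide, hex (by decide)⟩
  · exact ⟨by decide, hex (by decide)⟩
  · exact ⟨by decide, hex (by decide)⟩
  · exact ⟨by decide, hex (by decide)⟩
  · exact ⟨by decide, hex (by decide)⟩
  · exact ⟨by decide, hex (by decide)⟩
  · exact ⟨by decide, hex (by decide)⟩
  · exact ⟨by decide, hex (by decide)⟩
  · exact ⟨by decide, hex (by decide)⟩
  · exact ⟨by decide, LL.one Ord25.exists25⟩
  · exact ⟨by decide, hpr 31 (by norm_num) (by norm_num)⟩
  · exact ⟨by decide, LL.one exists33⟩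
  · exact ⟨by decide, hpr 37 (by norm_num) (by norm_num)⟩
  · exact ⟨by decide, hex (by decide)⟩
  · exact ⟨by decide, hpr 67 (by norm_num) (by norm_num)⟩
  · exact ⟨by decide, LL6 L⟩
  · exact ⟨by decide, LL8 L⟩
  · exact ⟨by decide, LL10 L⟩
  · exact ⟨by decide, LL12 L⟩
  · exact ⟨by decide, LL22 L⟩
  · exact ⟨by decide, LL24 L⟩
  · exact ⟨by decide, LL30 L⟩

end Cfsg.Agent.H314.LyOrb.IMSeven
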