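import Cfsg.Agent.H314.LyOrb.Rows

/-!
# Character degrees of the Lyons group (helper314)

`exists_chi`: irreducible characters of `Ly` of degrees 1, 45694, 1534500, 3028266, 4226695.
-/

set_option autoImplicit false

namespace Cfsg.Agent.H314.LyOrb

open Cfsg Cfsg.Agent.Ly Cfsg.Agent.H593 Cfsg.Agent.Ly.CoverData Cfsg.Agent.Ly.Setup Cfsg.Agent.Ly.Cent
  Cfsg.Agent.H314.OrbCount

/-- targets as elements of `Fin 5` -/
def tf (i : ℕ) (e : ℕ) : Fin 5 := Fin.ofNat 5 ((tgt i).getD e 0)

theorem row2 (j : Fin 5) : cnt psi.range Setup.w 1 2 j = ![0, 63, 2520, 4599, 12348] j := by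
  have h2 := tgtChk_sound _ _ _ tgt2
  have h3 := chkAll_sound _ _ _ all2
  rw [row 2 (by decide) (r := 11) rfl rfl rfl (fun e => tf 2 e) (by decide) (fun e => (siz 2).getD e 0) (by decide)
    (fun e h h' => h2.2 e h h') (fun e h h' => h3.2 e h h') (by decide) j]
  fin_cases j <;> decide

theorem row3 (j : Fin 5) : cnt psi.range Setup.w 1 3 j = ![0, 36, 2190, 4584, 12720] j := by
  have h2 := tgtChk_sound _ _ _ tgt3
  have h3 := chkAll_sound _ _ _ all3
  rw [row 3 (by decide) (r := 18) rfl rfl rfl (fun e => tf 3 e) (by decide) (fun e => (siz 3).getD e 0) (by decide)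
    (fun e h h' => h2.2 e h h') (fun e h h' => h3.2 e h h') (by decide) j]
  fin_cases j <;> decide

theorem row4 (j : Fin 5) : cnt psi.range Setup.w 1 4 j = ![0, 42, 2058, 4452, 12978] j := by
  have h2 := tgtChk_sound _ _ _ tgt4
  have h3 := chkAll_sound _ _ _ all4
  rw [row 4 (by decide) (r := 30) rfl rfl rfl (fun e => tf 4 e) (by decide) (fun e => (siz 4).getD e 0) (by decide)
    (fun e h h' => h2.2 e h h') (fun e h h' => h3.2 e h h') (by decide) j]
  fin_cases j <;> decide

theorem row0 (j : Fin 5) : cnt psi.range Setup.w 1 0 j = ![0, 19530, 0, 0, 0] j := by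
  rw [cnt_base sub_ly w_zero 1 j]
  fin_cases j <;> decide

theorem row1 (j : Fin 5) : cnt psi.range Setup.w 1 1 j = ![1, 154, 3125, 3750, 12500] j := by
  have h0 : cnt psi.range Setup.w 1 1 0 = 1 := cnt_self sub_ly 1 1 0 (by rw [row0]; decide) (by decide)
  have h2 : cnt psi.range Setup.w 1 1 2 = 3125 := cnt_self sub_ly 1 1 2 (by rw [row2]; decide) (by decide)
  have h3 : cnt psi.range Setup.w 1 1 3 = 3750 := cnt_self sub_ly 1 1 3 (by rw [row3]; decide) (by decide)
  have h4 : cnt psi.range Setup.w 1 1 4 = 12500 := cnt_self sub_ly 1 1 4 (by rw [row4]; decide) (by decide)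
  have h := sum_cnt sub_ly 1 1
  rw [Fin.sum_univ_five, h0, h2, h3, h4] at h
  have h1 : cnt psi.range Setup.w 1 1 1 = 154 := by
    have h5 : dd 1 = 19530 := rfl
    rw [h5] at h
    generalize cnt psi.range Setup.w 1 1 1 = c at h ⊢
    revert h
    exact fun h => by linarith
  fin_cases j
  · exact h0
  · exact h1
  · exact h2
  · exact h3
  · exact h4

/-- the intersection matrix of the suborbit of length 19530 -/
def M : Fin 5 → Fin 5 → ℕ :=
  ![![0, 19530, 0, 0, 0], ![1, 154, 3125, 3750, 12500], ![0, 63, 2520, 4599, 12348], ![0, 36, 2190, 4584, 12720],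
    ![0, 42, 2058, 4452, 12978]]

theorem cnt_M (i j : Fin 5) : cnt psi.range Setup.w 1 i j = M i j := by
  fin_cases i
  · exact row0 j
  · exact row1 j
  · exact row2 j
  · exact row3 j
  · exact row4 j

/-- the eigenvalues -/
def θ : Fin 5 → ℚ := ![19530, 549, 234, 49, -126]

/-- the eigenvectors -/
def V : Fin 5 → Fin 5 → ℚ :=
  ![![1, 1, 1, 1, 1], ![1, 61/2170, 91/7750, 41/27125, -2/775], ![1, 13/1085, -7/96875, -117/135625, 53/193750],
    ![1, 7/2790, -1/1550, 3/3875, -2/11625], ![1, -1/155, 7/19375, -1/3875, 1/19375]]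

/-- the degrees -/
def deg : Fin 5 → ℕ := ![1, 45694, 1534500, 3028266, 4226695]

/-- **Five irreducible characters of the Lyons group.** -/
theorem exists_deg_ly : ∃ χ : Fin 5 → IrrCharacter Cfsg.Spor.Ly, Function.Injective χ ∧
    ∀ l, charDegree (χ l : Cfsg.Spor.Ly → ℂ) = deg l := by
  obtain ⟨χ, h1, h2⟩ := exists_degrees sub_ly 1 0 w_zero M cnt_M θ
    (by intro i j h; fin_cases i <;> fin_cases j <;> first | rfl | (norm_num [θ] at h)) V
    (by intro l; fin_cases l <;> rfl)
    (by decide +kernel)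
  refine ⟨χ, h1, fun l => ?_⟩
  have h3 := h2 l
  rw [index_range, Fin.sum_univ_five] at h3
  have h4 : (charDegree (χ l : Cfsg.Spor.Ly → ℂ) : ℚ) = deg l := by
    have h5 : ∀ l : Fin 5, (dd 0 : ℚ) * V l 0 ^ 2 + dd 1 * V l 1 ^ 2 + dd 2 * V l 2 ^ 2 + dd 3 * V l 3 ^ 2 +
        dd 4 * V l 4 ^ 2 = 8835156 / deg l := by decide +kernel
    have h6 : (deg l : ℚ) ≠ 0 := by fin_cases l <;> norm_num [deg]
    rw [h5 l] at h3
    field_simp at h3
    push_cast at h3
    linarith
  exact_mod_cast h4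

end Cfsg.Agent.H314.LyOrb
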