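import Cfsg.Agent.H314.LyOrb.PermA
import Cfsg.Agent.H314.LyOrb.NSeven
import Cfsg.Agent.H724.IMTool

/-!
# Itô-Michler for `Ly` and the prime 7 (helper314)
-/

set_option autoImplicit false
set_option linter.unusedSectionVars false

namespace Cfsg.Agent.H314.LyOrb.IMSeven

open Cfsg Subgroup Equiv Cfsg.Agent.H593.IMCyc Cfsg.Agent.SporRec.TwoAn Cfsg.Agent.TypeM.Two Cfsg.Agent.H33
  Cfsg.Agent.H724.IMTool Cfsg.Agent.H713 Cfsg.Agent.H713.Count Cfsg.Agent.H314.LyOrb.PermA
  Cfsg.Agent.H710.Spor.Ly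

universe u

/-- The number `m` is at most the number of classes under the normalizer. -/
theorem numCls_le_norm {G : Type u} [Group G] [Finite G] (p : ℕ) (P : Subgroup G) {ι : Type*} [Fintype ι] (t : ι → G)
    (ht : ∀ c ∈ centralizer (P : Set G), ¬ p ∣ orderOf c → ∃ i, ∃ n ∈ normalizer (P : Set G), n * t i * n⁻¹ = c) :
    numCls p P ≤ Fintype.card ι := by
  classical
  unfold numCls
  let D := {C : ConjClasses (normalizer (P : Set G)) //
    ∀ n : normalizer (P : Set G), ConjClasses.mk n = C → ¬ p ∣ orderOf n ∧ (n : G) ∈ centralizer (P : Set G)}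
  have hex : ∀ A : D, ∃ i, ∃ x n : normalizer (P : Set G), ConjClasses.mk x = A.1 ∧
      (n : G) * t i * (n : G)⁻¹ = x := by
    rintro ⟨A, hA⟩
    obtain ⟨x, rfl⟩ := ConjClasses.exists_rep A
    obtain ⟨h1, h2⟩ := hA x rfl
    obtain ⟨i, n, hn, hi⟩ := ht (x : G) h2 (by rwa [Subgroup.orderOf_coe])
    exact ⟨i, x, ⟨n, hn⟩, rfl, hi⟩
  choose f x n hx hf using hex
  have := Fintype.ofFinite D
  show Nat.card D ≤ _
  rw [Nat.card_eq_fintype_card]
  refine Fintype.card_le_of_injective f fun A B hAB => ?_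
  apply Subtype.ext
  rw [← hx A, ← hx B, ConjClasses.mk_eq_mk_iff_isConj, isConj_iff]
  refine ⟨n B * (n A)⁻¹, ?_⟩
  apply Subtype.ext
  show (n B : G) * (n A : G)⁻¹ * (x A : G) * ((n B : G) * (n A : G)⁻¹)⁻¹ = x B
  rw [← hf A, ← hf B, hAB]
  group

section cover

variable {C : Type*} [Group C] (K : Cover (Fin 11) C)

/-- elements commuting with the lift `y` of the 7-cycle, of order prime to 7 -/
theorem mem_sub_of {y c : C} (hy : K.π y = t7) (hy7 : y ^ 7 = 1) (hc : c * y = y * c) (h7 : ¬ 7 ∣ orderOf c)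
    (hfin : 0 < orderOf c) : ∀ x, ¬ p4 x → K.π c x = x := by
  have hcyc : (K.π y).IsCycle := by rw [hy]; exact t7_cycle
  obtain ⟨k, s, hs, hcs⟩ := K.exists_of_comm_cycle hcyc hc
  have hs' : ∀ x, ¬ p4 x → K.π s x = x := by
    intro x hx
    apply hs x
    intro h
    rw [hy] at h
    exact hx ((t7_fix x).1 h)
  have hsy : s * y = y * s := K.comm_of_mem_sub hs
  -- `s ^ 24 = 1`
  obtain ⟨τ, hτ⟩ := PermA.exists_f hs'
  have hτ12 : ∀ τ : Perm (Fin 4), τ ^ 12 = 1 := by decide +kernel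
  have h1 : K.π (s ^ 12) = 1 := by rw [map_pow, ← hτ, ← map_pow, hτ12, map_one]
  have h2 : s ^ 24 = 1 := by
    rcases (K.ker _).1 h1 with h | h
    · rw [show 24 = 12 * 2 by norm_num, pow_mul, h, one_pow]
    · rw [show 24 = 12 * 2 by norm_num, pow_mul, h, K.z_pow_two]
  have hcomm : Commute (y ^ k) s := (Commute.zpow_left (show Commute y s from hsy.symm) k)
  have h3 : c ^ 24 = y ^ (24 * k) := by
    rw [hcs, hcomm.mul_pow, h2, mul_one, ← zpow_natCast, ← zpow_mul, mul_comm]
    norm_num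
  have h4 : (c ^ 24) ^ 7 = 1 := by
    rw [h3, ← zpow_natCast, ← zpow_mul, mul_comm, zpow_mul, zpow_natCast, hy7, one_zpow]
  have h5 : orderOf (c ^ 24) = 1 := by
    have h6 := orderOf_dvd_of_pow_eq_one h4
    rcases (Nat.dvd_prime (by norm_num : Nat.Prime 7)).1 h6 with h | h
    · exact h
    · exfalso
      apply h7
      rw [← h]
      exact orderOf_pow_dvd 24
  have h6 : y ^ (24 * k) = 1 := by rw [← h3]; exact orderOf_eq_one_iff.1 h5
  have h7' : y ^ k = 1 := by
    have h8 : y ^ (k : ℤ) = (y ^ (24 * k)) ^ (5 : ℤ) * (y ^ (7 : ℕ)) ^ (-17 * k) := by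
      rw [← zpow_mul, ← zpow_natCast, ← zpow_mul, ← zpow_add]
      congr 1
      push_cast
      ring
    rw [h8, h6, hy7, one_zpow, one_zpow, one_mul]
  rw [hcs, h7', one_mul]
  exact hs'

/-- the five kinds of elements -/
theorem kinds {y c q r : C} (hy : K.π y = t7) (hy7 : y ^ 7 = 1) (hq : K.π q = f dt) (hr : K.π r = f c3) (hr3 : r ^ 3 = 1)
    (hc : ∀ x, ¬ p4 x → K.π c x = x) :
    c = 1 ∨ c = K.z ∨ ∃ n : C, (n * y * n⁻¹ = y ∨ n * y * n⁻¹ = y⁻¹) ∧
      (n * q * n⁻¹ = c ∨ n * r * n⁻¹ = c ∨ n * (r * K.z) * n⁻¹ = c) := by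
  obtain ⟨τ, hτ⟩ := PermA.exists_f hc
  have hsgn : Perm.sign τ = 1 := by
    rw [← sign_f, hτ]
    exact Perm.mem_alternatingGroup.1 (K.mem_alternating c)
  have hconj_z : ∀ n : C, n * K.z * n⁻¹ = K.z := by
    intro n
    rw [K.z_comm n, mul_assoc, mul_inv_cancel, mul_one]
  rcases cases4 τ hsgn with h | ⟨a, ha, h⟩ | ⟨a, h⟩
  · rw [h, map_one] at hτ
    rcases (K.ker c).1 hτ.symm with h1 | h1
    · exact Or.inl h1
    · exact Or.inr (Or.inl h1)
  · right; right
    obtain ⟨g, hg⟩ := K.exists_lift (Perm.mem_alternatingGroup.2 ((sign_f a).trans ha))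
    -- `g` commutes with `y`
    have hgy : ∀ g' : C, (∀ x, ¬ p4 x → K.π g' x = x) → g' * y * g'⁻¹ = y := by
      intro g' h1
      have h2 : g' * y = y * g' := by
        apply K.comm_of_mem_sub
        intro x hx
        apply h1
        intro hp
        exact hx (by rw [hy]; exact (t7_fix x).2 hp)
      rw [h2, mul_inv_cancel_right]
    have hgy1 := hgy g (fun x hx => by rw [hg]; exact f_fix a x hx)
    have h1 : K.π (g * q * g⁻¹) = K.π c := by
      rw [map_mul, map_mul, map_inv, hg, hq, ← hτ, ← h, map_mul, map_mul, map_inv]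
    rcases K.lift_eq h1 with h2 | h2
    · exact ⟨g, Or.inl hgy1, Or.inl h2⟩
    · -- use an element of the four-group
      obtain ⟨v, hv⟩ := K.exists_lift (σ := f (swap 0 2 * swap 1 3)) (Perm.mem_alternatingGroup.2 (by
        rw [sign_f]; decide +kernel))
      have hvy := hgy v (fun x hx => by rw [hv]; exact f_fix _ x hx)
      have hvq : v * q * v⁻¹ = q * K.z := by
        have e1 : K.π q = swap 7 8 * swap 9 10 := by rw [hq, f_dt]
        have h3 : v * v = K.z := K.dbl 7 9 8 10 (by decide) (by decide) (by decide) (by decide) (by decide) (by decide) v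
          (by rw [hv]; decide +kernel)
        have h4 : q * q = K.z := K.dbl 7 8 9 10 (by decide) (by decide) (by decide) (by decide) (by decide) (by decide) q e1
        have h5 : (v * q) * (v * q) = K.z := K.dbl 7 10 8 9 (by decide) (by decide) (by decide) (by decide) (by decide)
          (by decide) (v * q) (by rw [map_mul, hv, hq]; decide +kernel)
        -- `v q v q = z`, so `v q v⁻¹ = v q v z = q⁻¹ ... `
        have h6 : v⁻¹ = v * K.z := by
          rw [inv_eq_iff_mul_eq_one, ← mul_assoc, h3, K.z_mul_z]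
        have h7 : q⁻¹ = q * K.z := by
          rw [inv_eq_iff_mul_eq_one, ← mul_assoc, h4, K.z_mul_z]
        have h8 : v * q * v = K.z * q⁻¹ := by
          rw [← h5]; group
        rw [h6, ← mul_assoc, h8, h7, ← mul_assoc, mul_assoc _ K.z K.z, K.z_mul_z, mul_one, ← K.z_comm q]
      refine ⟨g * v, Or.inl ?_, Or.inl ?_⟩
      · have : g * v * y * (g * v)⁻¹ = g * (v * y * v⁻¹) * g⁻¹ := by group
        rw [this, hvy, hgy1]
      · have : g * v * q * (g * v)⁻¹ = g * (v * q * v⁻¹) * g⁻¹ := by group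
        rw [this, hvq]
        have h9 : g * (q * K.z) * g⁻¹ = (g * q * g⁻¹) * (g * K.z * g⁻¹) := by group
        rw [h9, hconj_z, h2, mul_assoc, K.z_mul_z, mul_one]
  · right; right
    -- the permutation conjugating
    obtain ⟨ρ, hρs, hρ1, hρ2⟩ : ∃ ρ : Perm (Fin 11), Perm.sign ρ = 1 ∧ ρ * f c3 * ρ⁻¹ = f τ ∧
        (ρ * t7 * ρ⁻¹ = t7 ∨ ρ * t7 * ρ⁻¹ = t7⁻¹) := by
      have hdis : ∀ b : Perm (Fin 4), ∀ σ : Perm (Fin 11), (∀ x, p4 x → σ x = x) → f b * σ = σ * f b := by
        intro b σ hσ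
        apply Perm.Disjoint.commute
        intro x
        by_cases hx : p4 x
        · exact Or.inr (hσ x hx)
        · exact Or.inl (f_fix b x hx)
      have ht : f a * t7 = t7 * f a := hdis a t7 (fun x hx => (t7_fix x).2 hx)
      rcases Int.units_eq_one_or (Perm.sign a) with ha | ha
      · refine ⟨f a, (sign_f a).trans ha, by rw [← h, map_mul, map_mul, map_inv], Or.inl ?_⟩
        rw [ht, mul_inv_cancel_right]
      · have hi := hdis a inv7 inv7_fix
        have hi2 := hdis c3 inv7 inv7_fix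
        refine ⟨inv7 * f a, ?_, ?_, Or.inr ?_⟩
        · rw [map_mul, sign_f, ha, inv7_sign]; decide
        · have e1 : inv7 * f a * f c3 * (inv7 * f a)⁻¹ = inv7 * (f a * f c3 * (f a)⁻¹) * inv7⁻¹ := by group
          rw [e1, ← map_inv, ← map_mul, ← map_mul, h]
          have h3 := hdis τ inv7 inv7_fix
          rw [← h3, mul_inv_cancel_right]
        · have e1 : inv7 * f a * t7 * (inv7 * f a)⁻¹ = inv7 * (f a * t7 * (f a)⁻¹) * inv7⁻¹ := by group
          rw [e1, ht, mul_inv_cancel_right, inv7_conj]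
    obtain ⟨n, hn⟩ := K.exists_lift (Perm.mem_alternatingGroup.2 hρs)
    refine ⟨n, ?_, ?_⟩
    · rcases hρ2 with h1 | h1
      · left
        refine K.odd_lift_unique (n := 7) (by decide) ?_ hy7 ?_
        · rw [conj_pow, hy7, mul_one, mul_inv_cancel]
        · rw [map_mul, map_mul, map_inv, hn, hy, h1]
      · right
        refine K.odd_lift_unique (n := 7) (by decide) ?_ (by rw [inv_pow, hy7, inv_one]) ?_
        · rw [conj_pow, hy7, mul_one, mul_inv_cancel]
        · rw [map_mul, map_mul, map_inv, map_inv, hn, hy, h1]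
    · have h1 : K.π (n * r * n⁻¹) = K.π c := by
        rw [map_mul, map_mul, map_inv, hn, hr, hρ1, hτ]
      rcases K.lift_eq h1 with h2 | h2
      · exact Or.inr (Or.inl h2)
      · right; right
        have h9 : n * (r * K.z) * n⁻¹ = (n * r * n⁻¹) * (n * K.z * n⁻¹) := by group
        rw [h9, hconj_z, h2, mul_assoc, K.z_mul_z, mul_one]

end cover

end Cfsg.Agent.H314.LyOrb.IMSeven
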