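import Cfsg.Agent.Ly.Cover
import Cfsg.Agent.H314.LyOrb.Data

/-!
# The suborbits of `Ly` on the cosets of `G₂(5)`: checks (helper314)

Lower bounds for the orders of the subgroups `{s ∈ H_i : W s W⁻¹ ∈ H_1}` of `GL_7(5)`.
-/

set_option autoImplicit false

namespace Cfsg.Agent.H314.LyOrb

open Cfsg.Agent.Lib.PackMat Cfsg.Agent.Ly.Mat7 Cfsg.Agent.Ly.CoverCore Cfsg.Agent.Ly.Cover Cfsg.Agent.Ly.CoverData
  Cfsg.Agent.Ly.Walk

/-- the words and their inverses -/
def tb : List (List ℕ) → List (List ℕ)
  | [] => []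
  | w :: L => w :: invW w :: tb L

theorem ev_nth_mem {G : Type*} [Group G] (x : Fin 4 → G) (Q : Subgroup G) (L : List (List ℕ))
    (h : ∀ w ∈ L, ev x w ∈ Q) : ∀ n, ev x (nth (tb L) n) ∈ Q := by
  induction L with
  | nil => intro n; exact Q.one_mem
  | cons w L ih =>
    intro n
    match n with
    | 0 => exact h w (List.mem_cons_self ..)
    | 1 => show ev x (invW w) ∈ Q; rw [ev_invW]; exact Q.inv_mem (h w (List.mem_cons_self ..))
    | n + 2 => exact ih (fun v hv => h v (List.mem_cons_of_mem _ hv)) n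

theorem ev_ex_mem {G : Type*} [Group G] (x : Fin 4 → G) (L : List (List ℕ)) (s : List ℕ) :
    ev x (ex (tb L) s) ∈ subOf x L := by
  induction s with
  | nil => exact Subgroup.one_mem _
  | cons n s ih =>
    rw [ex, ev_append]
    exact Subgroup.mul_mem _ (ev_nth_mem x _ L (fun w hw => ev_mem_subOf x hw) n) ih

/-- the subgroup `{s ∈ H_i : W s W⁻¹ ∈ H_1}` -/
def TG (i : ℕ) (W : List ℕ) : Subgroup GL75 := Hsub i ⊓ (Hsub 1).comap (MulAut.conj (ev gen W)).toMonoidHom

theorem mem_TG {i : ℕ} {W : List ℕ} {g : GL75} :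
    g ∈ TG i W ↔ g ∈ Hsub i ∧ ev gen W * g * (ev gen W)⁻¹ ∈ Hsub 1 := Iff.rfl

/-- check of the generators -/
noncomputable def chkG (i : ℕ) (W : List ℕ) : List (ℕ × List ℕ × List ℕ) → Bool
  | [] => true
  | (X, s, k) :: gs =>
    bif Nat.beq (evalK (ex (tb (Hgens i)) s) oneN) X then
      bif eqW (W ++ (ex (tb (Hgens i)) s ++ invW W)) (ex (tb (Hgens 1)) k) then chkG i W gs else false
    else false

/-- entry of a list of codes -/
def nthC : List (ℕ × List ℕ × List ℕ) → ℕ → ℕ
  | [], _ => oneN
  | (X, _, _) :: _, 0 => X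
  | _ :: l, n + 1 => nthC l n

theorem chkG_sound {i : ℕ} {W : List ℕ} {gs : List (ℕ × List ℕ × List ℕ)} (h : chkG i W gs = true) :
    ∀ n, In (TG i W) (nthC gs n) := by
  induction gs with
  | nil => intro n; exact ⟨1, Subgroup.one_mem _, rep_one⟩
  | cons a gs ih =>
    obtain ⟨X, s, k⟩ := a
    rw [chkG, Bool.cond_false_right, Bool.and_eq_true, Bool.cond_false_right, Bool.and_eq_true] at h
    obtain ⟨h1, h2, h3⟩ := h
    intro n
    match n with
    | 0 =>
      have h4 : evalW (ex (tb (Hgens i)) s) = X := Nat.eq_of_beq_eq_true h1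
      show In (TG i W) X
      refine ⟨ev gen (ex (tb (Hgens i)) s), mem_TG.2 ⟨ev_ex_mem gen _ s, ?_⟩, h4 ▸ rep_evalW _⟩
      have h5 := word_eq h2
      rw [ev_append, ev_append, ev_invW, ← mul_assoc] at h5
      rw [h5]
      exact ev_ex_mem gen _ k
    | n + 1 => exact ih h3 n

/-- the element given by a word in the generators -/
noncomputable def evalC (gs : List (ℕ × List ℕ × List ℕ)) : List ℕ → ℕ → ℕ
  | [], X => X
  | q :: w, X => force (mulF X (nthC gs q)) fun Y => evalC gs w Y

theorem evalC_in {S : Subgroup GL75} {gs : List (ℕ × List ℕ × List ℕ)} (h : ∀ n, In S (nthC gs n)) (w : List ℕ) :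
    ∀ {X : ℕ}, In S X → In S (evalC gs w X) := by
  induction w with
  | nil => intro X hX; exact hX
  | cons q w ih =>
    intro X hX
    rw [evalC, force_eq]
    exact ih (hX.mul (h q))

/-- the codes are strictly increasing, starting after `X`; the number of elements is `n` -/
noncomputable def sortC (gs : List (ℕ × List ℕ × List ℕ)) : List (List ℕ) → ℕ → ℕ → Bool
  | [], _, n => Nat.beq n 0
  | w :: ws, X, n =>
    force (evalC gs w oneN) fun Y => bif Nat.blt X Y then sortC gs ws Y (Nat.pred n) && Nat.ble 1 n else false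

theorem sortC_sound {S : Subgroup GL75} {gs : List (ℕ × List ℕ × List ℕ)} (h : ∀ n, In S (nthC gs n))
    (ws : List (List ℕ)) : ∀ X n, sortC gs ws X n = true →
      ∃ f : Fin n → ℕ, StrictMono f ∧ (∀ k, X < f k) ∧ ∀ k, In S (f k) := by
  induction ws with
  | nil =>
    intro X n hn
    obtain rfl := Nat.eq_of_beq_eq_true hn
    exact ⟨Fin.elim0, fun a => a.elim0, fun a => a.elim0, fun a => a.elim0⟩
  | cons w ws ih =>
    intro X n hn
    rw [sortC, force_eq, Bool.cond_false_right, Bool.and_eq_true, Bool.and_eq_true] at hn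
    obtain ⟨h1, h2, h3⟩ := hn
    obtain ⟨n, rfl⟩ : ∃ m, n = m + 1 := ⟨n - 1, by have := Nat.le_of_ble_eq_true h3; omega⟩
    obtain ⟨f, hf1, hf2, hf3⟩ := ih _ _ h2
    have h4 := blt_lt h1
    refine ⟨Fin.cons (evalC gs w oneN) f, ?_, ?_, ?_⟩
    · intro a b hab
      induction a using Fin.cases with
      | zero =>
        induction b using Fin.cases with
        | zero => exact absurd hab (lt_irrefl _)
        | succ b => rw [Fin.cons_zero, Fin.cons_succ]; exact hf2 b
      | succ a =>
        induction b using Fin.cases with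
        | zero => exact absurd hab (Fin.not_lt_zero _)
        | succ b => rw [Fin.cons_succ, Fin.cons_succ]; exact hf1 (Fin.succ_lt_succ_iff.1 hab)
    · intro k
      induction k using Fin.cases with
      | zero => rw [Fin.cons_zero]; exact h4
      | succ k => rw [Fin.cons_succ]; exact h4.trans (hf2 k)
    · intro k
      induction k using Fin.cases with
      | zero => rw [Fin.cons_zero]; exact evalC_in h w ⟨1, S.one_mem, rep_one⟩
      | succ k => rw [Fin.cons_succ]; exact hf3 k

theorem card_ge_of {S : Subgroup GL75} {n : ℕ} {f : Fin n → ℕ} (hf : StrictMono f) (h : ∀ k, In S (f k)) :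
    n ≤ Nat.card S := by
  classical
  choose g hg hr using h
  have hinj : Function.Injective (fun k : Fin n => (⟨g k, hg k⟩ : S)) := by
    intro a b hab
    have h1 : g a = g b := congrArg Subtype.val hab
    have h2 := hr b
    rw [← h1] at h2
    exact hf.injective ((hr a).code h2)
  have := Nat.card_le_card_of_injective _ hinj
  simpa using this

/-- one entry: the certificate `c`, the word `W`, the length `m` of the orbit of the group of order `N` -/
noncomputable def chk1 (i N : ℕ) (W : List ℕ) (c : List (ℕ × List ℕ × List ℕ) × List (List ℕ)) (m : ℕ) : Bool :=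
  chkG i W c.1 && sortC c.1 c.2 0 (Nat.div N m) && Nat.beq (Nat.mul m (Nat.div N m)) N

theorem chk1_sound {i N : ℕ} {W : List ℕ} {c : List (ℕ × List ℕ × List ℕ) × List (List ℕ)} {m : ℕ}
    (h : chk1 i N W c m = true) : N ≤ m * Nat.card (TG i W) := by
  unfold chk1 at h
  rw [Bool.and_eq_true, Bool.and_eq_true] at h
  obtain ⟨⟨h1, h2⟩, h3⟩ := h
  obtain ⟨f, hf1, -, hf3⟩ := sortC_sound (chkG_sound h1) c.2 _ _ h2
  have h4 := card_ge_of hf1 hf3
  have h5 : m * Nat.div N m = N := Nat.eq_of_beq_eq_true h3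
  calc N = m * Nat.div N m := h5.symm
    _ ≤ m * Nat.card (TG i W) := Nat.mul_le_mul_left _ h4

/-- all entries -/
noncomputable def chkAll (i N : ℕ) : List (List ℕ) → List (List (ℕ × List ℕ × List ℕ) × List (List ℕ)) → List ℕ → Bool
  | [], [], [] => true
  | W :: Ws, c :: cs, m :: ms => chk1 i N W c m && chkAll i N Ws cs ms
  | _, _, _ => false

theorem chkAll_sound {i N : ℕ} (Ws : List (List ℕ)) : ∀ (cs : List (List (ℕ × List ℕ × List ℕ) × List (List ℕ)))
    (ms : List ℕ), chkAll i N Ws cs ms = true → ms.length = Ws.length ∧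
      ∀ e (h : e < Ws.length) (h' : e < ms.length), N ≤ ms[e] * Nat.card (TG i Ws[e]) := by
  induction Ws with
  | nil =>
    intro cs ms h
    match cs, ms, h with
    | [], [], _ => exact ⟨rfl, fun e h => absurd h (Nat.not_lt_zero _)⟩
  | cons W Ws ih =>
    intro cs ms h
    match cs, ms, h with
    | c :: cs, m :: ms, h =>
      rw [chkAll, Bool.and_eq_true] at h
      obtain ⟨h1, h2⟩ := ih cs ms h.2
      refine ⟨by simp [h1], ?_⟩
      intro e he he'
      match e with
      | 0 => exact chk1_sound h.1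
      | e + 1 => exact h2 e (by simpa using he) (by simpa using he')

theorem all2 : chkAll 2 6048 (reps 2) cert2 (siz 2) = true := by decide +kernel
theorem all3 : chkAll 3 2880 (reps 3) cert3 (siz 3) = true := by decide +kernel
theorem all4 : chkAll 4 1008 (reps 4) cert4 (siz 4) = true := by decide +kernel

end Cfsg.Agent.H314.LyOrb
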