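import Cfsg.Agent.Ly.Setup
import Cfsg.Agent.H314.LyOrb.Check
import Cfsg.Agent.H314.OrbCount

/-!
# The rows of the intersection matrix of `Ly` on the cosets of `G₂(5)` (helper314)
-/

set_option autoImplicit false

namespace Cfsg.Agent.H314.LyOrb

open Cfsg.Agent.Ly Cfsg.Agent.H593 Cfsg.Agent.Ly.Mat7 Cfsg.Agent.Ly.CoverCore Cfsg.Agent.Ly.Cover Cfsg.Agent.Ly.CoverData Cfsg.Agent.Ly.CoverWalk
  Cfsg.Agent.Ly.Walk Cfsg.Agent.Ly.WalkData Cfsg.Agent.Ly.WalkCtx Cfsg.Agent.Ly.WalkFacts Cfsg.Agent.Ly.Pres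
  Cfsg.Agent.Ly.Upper Cfsg.Agent.Ly.Setup Cfsg.Agent.Ly.Cent Cfsg.Agent.H314.OrbCount

/-- the words are covered by transitions with the given targets -/
noncomputable def tgtChk (E : List Edge) (i : ℕ) : List (List ℕ) → List (ℕ × List ℕ × List ℕ) → List ℕ → Bool
  | [], _, ts => ts.isEmpty
  | _ :: _, [], _ => false
  | _ :: _, _ :: _, [] => false
  | w :: ws, (e, s, k) :: cs, t :: ts =>
    match nthE E e with
    | none => false
    | some ed => (Nat.beq ed.i i && Nat.beq ed.j t && eqW (invW w) (ex (tSt i) s ++ (ed.r ++ ex tK k))) &&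
        tgtChk E i ws cs ts

theorem tgtChk_sound {E : List Edge} {i : ℕ} (ws : List (List ℕ)) :
    ∀ (cs : List (ℕ × List ℕ × List ℕ)) (ts : List ℕ), tgtChk E i ws cs ts = true → ts.length = ws.length ∧
      ∀ e (h : e < ws.length) (h' : e < ts.length), ∃ ed ∈ E, ed.i = i ∧ ed.j = ts[e] ∧ ∃ s k : List ℕ,
      eqW (invW ws[e]) (ex (tSt ed.i) s ++ (ed.r ++ ex tK k)) = true := by
  induction ws with
  | nil =>
    intro cs ts h
    match ts, h with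
    | [], _ => exact ⟨rfl, fun e h => absurd h (Nat.not_lt_zero _)⟩
  | cons w0 ws ih =>
    intro cs ts h
    match cs, ts, h with
    | (e0, s, k) :: cs, t :: ts, h =>
      rw [tgtChk] at h
      cases he : nthE E e0 with
      | none => rw [he] at h; simp at h
      | some ed =>
        rw [he] at h
        simp only [Bool.and_eq_true] at h
        obtain ⟨⟨⟨h1, h2⟩, h3⟩, h4⟩ := h
        obtain ⟨h5, h6⟩ := ih cs ts h4
        refine ⟨by simp [h5], ?_⟩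
        intro e hl hl'
        match e with
        | 0 =>
          have h7 := Nat.eq_of_beq_eq_true h1
          have h8 := Nat.eq_of_beq_eq_true h2
          refine ⟨ed, Ctx.nthE_mem he, h7, h8, s, k, ?_⟩
          rw [h7]
          exact h3
        | e + 1 => exact h6 e (by simpa using hl) (by simpa using hl')

theorem tgt2 : tgtChk (baseE ++ derE.map Prod.fst) 2 (reps 2) cc2 (tgt 2) = true := by decide +kernel
theorem tgt3 : tgtChk (baseE ++ derE.map Prod.fst) 3 (reps 3) cc3 (tgt 3) = true := by decide +kernel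
theorem tgt4 : tgtChk (baseE ++ derE.map Prod.fst) 4 (reps 4) cc4 (tgt 4) = true := by decide +kernel

/-! ### The permutation representation -/

theorem St_eq (i : Fin 5) : St psi.range (Setup.w i) = (Hs i).map psi := (map_eq i).symm

theorem dd_inj : Function.Injective dd := by
  intro i j h
  fin_cases i <;> fin_cases j <;> first | rfl | (simp [dd] at h)

theorem sub_ly : IMFrame.Sub Cfsg.Spor.Ly (Cfsg.Spor.Ly ⧸ psi.range) (QuotientGroup.mk 1 : Cfsg.Spor.Ly ⧸ psi.range)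
    (fun i => QuotientGroup.mk (Setup.w i)) dd :=
  OrbCount.sub nn (fun i => by rw [St_eq, card_map, card_Hs]) (fun i => by rw [card_range]; exact dd_mul_nn i) dd_inj
    (by rw [sum_dd, index_range])

/-- the orbitals are self-paired -/
theorem inv_mem (j : Fin 5) : ∃ h₁ ∈ psi.range, ∃ h₂ ∈ psi.range, (Setup.w j)⁻¹ = h₁ * Setup.w j * h₂ := by
  have h1 : IMFrame.Rel Cfsg.Spor.Ly (QuotientGroup.mk 1 : Cfsg.Spor.Ly ⧸ psi.range) (QuotientGroup.mk (Setup.w j))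
      (QuotientGroup.mk 1) (QuotientGroup.mk (Setup.w j)) := ⟨1, one_smul _ _, one_smul _ _⟩
  have h2 := sub_ly.symm h1
  rw [rel_iff] at h2
  obtain ⟨h₁, hh1, h₂, hh2, h⟩ := h2
  rw [mul_one] at h
  exact ⟨h₁, hh1, h₂, hh2, h⟩

theorem ev_mem_range (w : List ℕ) : ev (X4 gens) w ∈ psi.range := ⟨_, psi_ev w⟩

theorem hzz' : gens 4 * gens 4 = ev (X4 gens) [0, 0] := hzz gens Index.data.hx

theorem w_one : Setup.w 1 = (gens 4)⁻¹ := rfl

/-- the target of a transition -/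
theorem target (i : Fin 5) (hi : 1 ≤ (i : ℕ)) (W : List ℕ) (j : Fin 5)
    (h : ∃ ed ∈ baseE ++ derE.map Prod.fst, ed.i = (i : ℕ) ∧ ed.j = (j : ℕ) ∧ ∃ s k : List ℕ,
      eqW (invW W) (ex (tSt ed.i) s ++ (ed.r ++ ex tK k)) = true) :
    ∃ h₁ ∈ psi.range, ∃ h₂ ∈ psi.range,
      (Setup.w i)⁻¹ * (psi (ev Data.hgen (invW W)) * Setup.w 1) = h₁ * Setup.w j * h₂ := by
  obtain ⟨ed, hed, hedi, hedj, s0, k0, hc⟩ := h
  have hstep := Index.data.C.step (valid_all gens Index.data.hx Index.data.wp ed hed) (hedi ▸ hi) hc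
  have hstep2 : base gens ed.i * ev (X4 gens) (invW W) * gens 4 *
      (base gens ed.j * ev (X4 gens) (ed.t ++ ex tS k0))⁻¹ ∈ HH gens := hstep
  rw [← range_psi] at hstep2
  obtain ⟨h₁, hh1, h₂, hh2, hj⟩ := inv_mem j
  have hj' : base gens (j : ℕ) = h₁ * Setup.w j * h₂ := by
    rw [← hj]; exact (inv_inv _).symm
  rw [hedi, hedj] at hstep2
  refine ⟨base gens (i : ℕ) * ev (X4 gens) (invW W) * gens 4 *
      (base gens (j : ℕ) * ev (X4 gens) (ed.t ++ ex tS k0))⁻¹ * h₁, psi.range.mul_mem hstep2 hh1,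
      h₂ * ev (X4 gens) (ed.t ++ ex tS k0) * (ev (X4 gens) [0, 0])⁻¹,
      psi.range.mul_mem (psi.range.mul_mem hh2 (ev_mem_range _)) (psi.range.inv_mem (ev_mem_range _)), ?_⟩
  have e1 : (Setup.w i)⁻¹ = base gens (i : ℕ) := inv_inv _
  rw [e1, psi_ev, w_one, ← hzz', hj']
  group

/-- the coset representatives cover the suborbit -/
theorem covers (i : Fin 5) (x : Cfsg.Spor.Ly) (hx : x ∈ psi.range) :
    ∃ W ∈ reps (i : ℕ), ∃ σ ∈ St psi.range (Setup.w i),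
      (σ * (psi (ev Data.hgen (invW W)) * Setup.w 1))⁻¹ * (x * Setup.w 1) ∈ psi.range := by
  obtain ⟨y, rfl⟩ := hx
  obtain ⟨W, hW, k, hk, s, hs, hy⟩ := covering (i := (i : ℕ)) i.2 ((y⁻¹ : Hhat) : GL75) (y⁻¹).2
  have hk' : k ∈ Hhat := Hsub_le_Hhat 1 hk
  have hs' : s ∈ Hhat := Hsub_le_Hhat i hs
  have hy2 : y⁻¹ = (⟨k, hk'⟩ : Hhat) * ev Data.hgen W * ⟨s, hs'⟩ := by
    apply Subtype.ext
    rw [hy, Subgroup.coe_mul, Subgroup.coe_mul, Data.coe_ev]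
  have hy3 : psi y = (psi ⟨s, hs'⟩)⁻¹ * psi (ev Data.hgen (invW W)) * (psi ⟨k, hk'⟩)⁻¹ := by
    have h3 : psi y⁻¹ = psi ⟨k, hk'⟩ * psi (ev Data.hgen W) * psi ⟨s, hs'⟩ := by
      rw [hy2, map_mul, map_mul]
    rw [map_inv] at h3
    rw [← inv_inv (psi y), h3, ev_invW, map_inv]
    group
  refine ⟨W, hW, (psi ⟨s, hs'⟩)⁻¹, ?_, ?_⟩
  · rw [St_eq]
    exact Subgroup.inv_mem _ ⟨_, hs, rfl⟩
  · have h1 : psi ⟨k, hk'⟩ ∈ St psi.range (Setup.w 1) := by
      rw [St_eq]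
      exact ⟨_, hk, rfl⟩
    have h2 := psi.range.inv_mem ((mem_St psi.range).1 h1).2
    rw [hy3]
    have e : ((psi ⟨s, hs'⟩)⁻¹ * (psi (ev Data.hgen (invW W)) * Setup.w 1))⁻¹ *
        ((psi ⟨s, hs'⟩)⁻¹ * psi (ev Data.hgen (invW W)) * (psi ⟨k, hk'⟩)⁻¹ * Setup.w 1) =
        ((Setup.w 1)⁻¹ * psi ⟨k, hk'⟩ * Setup.w 1)⁻¹ := by group
    rw [e]
    exact h2

theorem TG_le (i : ℕ) (W : List ℕ) : TG i W ≤ Hhat := inf_le_left.trans (Hsub_le_Hhat i)

/-- the stabiliser -/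
noncomputable def T (i : ℕ) (W : List ℕ) : Subgroup Cfsg.Spor.Ly := ((TG i W).subgroupOf Hhat).map psi

theorem card_T (i : ℕ) (W : List ℕ) : Nat.card (T i W) = Nat.card (TG i W) := by
  unfold T
  rw [← Nat.card_congr (((TG i W).subgroupOf Hhat).equivMapOfInjective psi psi_injective).toEquiv]
  exact Nat.card_congr (Subgroup.subgroupOfEquivOfLe (TG_le i W)).toEquiv

theorem T_le (i : Fin 5) (W : List ℕ) : T (i : ℕ) W ≤ St psi.range (Setup.w i) := by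
  rw [St_eq]
  refine Subgroup.map_mono ?_
  intro g hg
  exact (mem_TG.1 hg).1

theorem T_conj (i : ℕ) (W : List ℕ) (g : Cfsg.Spor.Ly) (hg : g ∈ T i W) :
    (psi (ev Data.hgen (invW W)) * Setup.w 1)⁻¹ * g * (psi (ev Data.hgen (invW W)) * Setup.w 1) ∈ psi.range := by
  obtain ⟨τ, hτ, rfl⟩ := hg
  have h1 : (ev Data.hgen W * τ * (ev Data.hgen W)⁻¹ : Hhat) ∈ Hs 1 := by
    show ((ev Data.hgen W * τ * (ev Data.hgen W)⁻¹ : Hhat) : GL75) ∈ Hsub 1
    rw [Subgroup.coe_mul, Subgroup.coe_mul, Subgroup.coe_inv, Data.coe_ev]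
    exact (mem_TG.1 hτ).2
  have h2 : psi (ev Data.hgen W * τ * (ev Data.hgen W)⁻¹) ∈ St psi.range (Setup.w 1) := by
    rw [St_eq]; exact ⟨_, h1, rfl⟩
  have h3 := ((mem_St psi.range).1 h2).2
  rw [map_mul, map_mul, map_inv] at h3
  rw [ev_invW, map_inv]
  have e : ((psi (ev Data.hgen W))⁻¹ * Setup.w 1)⁻¹ * psi τ * ((psi (ev Data.hgen W))⁻¹ * Setup.w 1) =
      (Setup.w 1)⁻¹ * (psi (ev Data.hgen W) * psi τ * (psi (ev Data.hgen W))⁻¹) * Setup.w 1 := by group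
  rw [e]
  exact h3

/-- **a row of the intersection matrix** -/
theorem row (i : Fin 5) (hi : 1 ≤ (i : ℕ)) {r : ℕ} (hr : (reps (i : ℕ)).length = r)
    (hs : (siz (i : ℕ)).length = r) (hl : (tgt (i : ℕ)).length = r)
    (tt : Fin r → Fin 5) (htt : ∀ e : Fin r, (tt e : ℕ) = (tgt (i : ℕ))[(e : ℕ)]'(hl ▸ e.2))
    (NN : Fin r → ℕ) (hNN : ∀ e : Fin r, NN e = (siz (i : ℕ))[(e : ℕ)]'(hs ▸ e.2))
    (htg : ∀ e (h : e < (reps (i : ℕ)).length) (h' : e < (tgt (i : ℕ)).length), ∃ ed ∈ baseE ++ derE.map Prod.fst,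
      ed.i = (i : ℕ) ∧ ed.j = (tgt (i : ℕ))[e] ∧ ∃ s k : List ℕ,
      eqW (invW (reps (i : ℕ))[e]) (ex (tSt ed.i) s ++ (ed.r ++ ex tK k)) = true)
    (hN : ∀ e (h : e < (reps (i : ℕ)).length) (h' : e < (siz (i : ℕ)).length),
      nn i ≤ (siz (i : ℕ))[e] * Nat.card (TG (i : ℕ) (reps (i : ℕ))[e]))
    (hsum : ∑ e, NN e ≤ 19530) (j : Fin 5) :
    cnt psi.range Setup.w 1 i j = ∑ e, if tt e = j then NN e else 0 := by
  refine cnt_eq sub_ly 1 i (ι := Fin r)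
    (fun e => psi (ev Data.hgen (invW ((reps (i : ℕ))[(e : ℕ)]'(hr ▸ e.2))))) tt ?_ ?_
    (fun e => T (i : ℕ) ((reps (i : ℕ))[(e : ℕ)]'(hr ▸ e.2))) (fun e => T_le i _) (fun e => T_conj (i : ℕ) _) NN ?_ hsum j
  · intro e
    refine target i hi _ (tt e) ?_
    rw [htt e]
    exact htg e _ _
  · intro x hx
    obtain ⟨W, hW, σ, hσ, h⟩ := covers i x hx
    obtain ⟨e, he, rfl⟩ := List.getElem_of_mem hW
    exact ⟨⟨e, hr ▸ he⟩, σ, hσ, h⟩
  · intro e
    rw [St_eq, card_map, card_Hs, card_T, hNN e]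
    exact hN e _ _

end Cfsg.Agent.H314.LyOrb
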